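import Groth.Agent.Misc3Fib.Basic
import Groth.Prelude.Def_Mor2
import Mathlib.AlgebraicGeometry.Morphisms.Immersion

/-! Fibre degrees of finite locally free morphisms and of immersions (`BddFib`). -/

set_option autoImplicit false

universe u

open CategoryTheory CategoryTheory.Limits AlgebraicGeometry

namespace Groth.Misc3Fib

variable {X Y : Scheme.{u}}

theorem fibreDegLE_of_finrank_le (f : X ⟶ Y) [IsFinite f] [Flat f] (d : ℕ) (h : ∀ y, f.finrank y ≤ d) :
    BddFib.FibreDegLE f d := fun y => by
  show BddFib.FiniteOfDegLE (CommRingCat.of (Y.residueField y)) (pullback.snd f (Y.fromSpecResidueField y)) d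
  refine (finiteOfDegLE_iff _ d).2 ⟨inferInstance, ?_⟩
  obtain ⟨z⟩ : Nonempty ↥(Spec (CommRingCat.of (Y.residueField y))) := inferInstance
  rw [deg_eq_finrank _ z,
    Scheme.Hom.finrank_of_isPullback (pullback.fst f (Y.fromSpecResidueField y)) _ f _
      (IsPullback.of_hasPullback _ _)]
  exact h _

theorem fibreDegLE_one_of_immersion (f : X ⟶ Y) [IsImmersion f] : BddFib.FibreDegLE f 1 := fun y => by
  let p : pullback f (Y.fromSpecResidueField y) ⟶ Spec (CommRingCat.of (Y.residueField y)) :=
    pullback.snd f (Y.fromSpecResidueField y)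
  show BddFib.FiniteOfDegLE (CommRingCat.of (Y.residueField y)) p 1
  haveI : IsImmersion p := MorphismProperty.pullback_snd _ _ inferInstance
  haveI : DiscreteTopology ↥(Spec (CommRingCat.of (Y.residueField y))) := inferInstance
  haveI : IsClosedImmersion p := IsClosedImmersion.of_isPreimmersion p (isClosed_discrete _)
  refine (finiteOfDegLE_iff p 1).2 ⟨inferInstance, ?_⟩
  obtain ⟨-, hs⟩ := IsClosedImmersion.isAffine_surjective_of_isAffine (f := p)
  let R : CommRingCat.{u} := Γ(pullback f (Y.fromSpecResidueField y), ⊤)
  letI : Algebra (Y.residueField y) R := BddFib.secAlgebra _ p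
  have hsurj : Function.Surjective (Algebra.linearMap (Y.residueField y) R) :=
    hs.comp (ConcreteCategory.bijective_of_isIso (Scheme.ΓSpecIso _).inv).2
  calc deg p = Module.finrank (Y.residueField y) R := rfl
    _ ≤ Module.finrank (Y.residueField y) (Y.residueField y) :=
        LinearMap.finrank_le_finrank_of_surjective hsurj
    _ = 1 := Module.finrank_self _

end Groth.Misc3Fib
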