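import Groth.Agent.Misc3Fib.Comp
import Mathlib.AlgebraicGeometry.Morphisms.UniversallyOpen
import Mathlib.RingTheory.RingHom.FaithfullyFlat

/-! Fibre bounds descend along flat surjective morphisms (`BddFib`). -/

set_option autoImplicit false

universe u

open CategoryTheory CategoryTheory.Limits AlgebraicGeometry

namespace Groth.Misc3Fib

variable {k : Type u} [Field k] {S T : Scheme.{u}}

theorem finiteOfDegLE_of_flat_surjective (q : S ⟶ T) [Flat q] [Surjective q]
    (p : T ⟶ Spec (CommRingCat.of k)) {n : ℕ}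
    (h : BddFib.FiniteOfDegLE (CommRingCat.of k) (q ≫ p) n) :
    BddFib.FiniteOfDegLE (CommRingCat.of k) p n := by
  haveI : IsFinite (q ≫ p) := ((finiteOfDegLE_iff _ n).1 h).1
  haveI : IsAffine S := isAffine_of_isAffineHom (q ≫ p)
  obtain ⟨hSf, hSd⟩ := finite_discrete_of_isFinite (q ≫ p)
  haveI : Finite T := Finite.of_surjective q q.surjective
  haveI : T1Space T := t1Space_iff_specializes_imp_eq.2 fun t' t ht => by
    obtain ⟨x, rfl⟩ := q.surjective t
    obtain ⟨x', hx', rfl⟩ := Flat.generalizingMap q ht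
    rw [hx'.eq]
  haveI : IsAffine T := PropsBasic2.isAffine_of_finite_discrete T
  obtain ⟨φ, hφ⟩ : ∃ φ, Spec.map φ = S.isoSpec.inv ≫ q ≫ T.isoSpec.hom := ⟨_, Spec.map_preimage _⟩
  obtain ⟨ψ, hψ⟩ : ∃ ψ, Spec.map ψ = T.isoSpec.inv ≫ p := ⟨_, Spec.map_preimage _⟩
  let R : CommRingCat.{u} := Γ(T, ⊤)
  let A : CommRingCat.{u} := Γ(S, ⊤)
  letI : Algebra k R := ψ.hom.toAlgebra
  letI : Algebra k A := (φ.hom.comp ψ.hom).toAlgebra
  let f : R →ₐ[k] A := { φ.hom with commutes' := fun a => rfl }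
  have hf : Function.Injective f := by
    haveI h1 : Flat (Spec.map φ) := by rw [hφ]; infer_instance
    haveI h2 : Surjective (Spec.map φ) := by rw [hφ]; infer_instance
    exact (RingHom.FaithfullyFlat.iff_flat_and_comap_surjective.2
      ⟨Flat.SpecMap_iff.1 h1, h2.surj⟩).injective
  obtain ⟨hA1, hA2⟩ := (finiteOfDegLE_spec_iff k A n).1
    (finiteOfDegLE_of_iso S.isoSpec.symm (Spec.map (ψ ≫ φ)) (q ≫ p)
      (by rw [Spec.map_comp, hφ, hψ]; simp) h)
  haveI := hA1
  refine finiteOfDegLE_of_iso T.isoSpec p (Spec.map ψ) (by rw [hψ]; simp)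
    ((finiteOfDegLE_spec_iff k R n).2 ⟨Module.Finite.of_injective f.toLinearMap hf,
      (LinearMap.finrank_le_finrank_of_injective (f := f.toLinearMap) hf).trans hA2⟩)

theorem fibreDegLE_of_flat_surjective {X Y Z : Scheme.{u}} (f : X ⟶ Y) (h : Y ⟶ Z) [Flat f] [Surjective f]
    (n : ℕ) (hg : BddFib.FibreDegLE (f ≫ h) n) : BddFib.FibreDegLE h n := by
  rw [fibreDegLE_iff]
  intro k _ z
  let q := pullback.snd f (pullback.fst h z)
  refine finiteOfDegLE_of_flat_surjective q (pullback.snd h z) ?_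
  exact finiteOfDegLE_of_iso
    ((IsPullback.of_hasPullback f (pullback.fst h z)).paste_vert (IsPullback.of_hasPullback h z)).isoPullback
    _ _ (IsPullback.isoPullback_hom_snd _) ((fibreDegLE_iff (f ≫ h) n).1 hg k z)

end Groth.Misc3Fib
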