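import Groth.Agent.Misc3Fib.Comp
import Groth.Agent.Misc3Fib.Special
import Mathlib.AlgebraicGeometry.Morphisms.QuasiFinite
import Mathlib.RingTheory.ZariskisMainTheorem

/-! Locally quasi-finite morphisms with quasi-compact source have bounded fibres (`BddFib`). -/

set_option autoImplicit false

universe u

open CategoryTheory CategoryTheory.Limits AlgebraicGeometry

namespace Groth.Misc3Fib

theorem fibreDegLE_of_isOpenCover {X Y : Scheme.{u}} (f : X ⟶ Y) {ι : Type u} [Fintype ι]
    (U : ι → Scheme.{u}) (j : ∀ i, U i ⟶ X) [∀ i, IsOpenImmersion (j i)] (hj : ∀ x, ∃ i, x ∈ Set.range (j i))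
    (n : ι → ℕ) (hn : ∀ i, BddFib.FibreDegLE (j i ≫ f) (n i)) : BddFib.FibreDegLE f (∑ i, n i) := by
  rw [fibreDegLE_iff]
  intro k _ z
  let T := pullback f z
  let p : T ⟶ Spec (CommRingCat.of k) := pullback.snd f z
  let q : ∀ i, pullback (j i) (pullback.fst f z) ⟶ T := fun i => pullback.snd (j i) (pullback.fst f z)
  have hq : ∀ i, BddFib.FiniteOfDegLE (CommRingCat.of k) (q i ≫ p) (n i) := fun i =>
    finiteOfDegLE_of_iso
      ((IsPullback.of_hasPullback (j i) (pullback.fst f z)).paste_vert (IsPullback.of_hasPullback f z)).isoPullback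
      _ _ (IsPullback.isoPullback_hom_snd _) ((fibreDegLE_iff _ _).1 (hn i) k z)
  haveI hqf : ∀ i, IsFinite (q i ≫ p) := fun i => ((finiteOfDegLE_iff _ _).1 (hq i)).1
  haveI hqo : ∀ i, IsOpenImmersion (q i) := fun i => MorphismProperty.pullback_snd _ _ inferInstance
  have hcov : ∀ t : T, ∃ i x, q i x = t := fun t => by
    obtain ⟨i, w, hw⟩ := hj (pullback.fst f z t)
    obtain ⟨x, -, hx⟩ := Scheme.Pullback.exists_preimage_pullback w t hw
    exact ⟨i, x, hx⟩
  haveI : ∀ i, Finite ↥(pullback (j i) (pullback.fst f z)) := fun i =>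
    (finite_discrete_of_isFinite (q i ≫ p)).1
  haveI : Finite T := Finite.of_surjective (fun s : Σ i, ↥(pullback (j i) (pullback.fst f z)) => q s.1 s.2)
    fun t => let ⟨i, x, hx⟩ := hcov t; ⟨⟨i, x⟩, hx⟩
  haveI : DiscreteTopology T := discreteTopology_iff_isOpen_singleton.2 fun t => by
    obtain ⟨i, x, rfl⟩ := hcov t
    haveI := (finite_discrete_of_isFinite (q i ≫ p)).2
    have := (q i).isOpenEmbedding.isOpenMap _ (isOpen_discrete {x})
    rwa [Set.image_singleton] at this
  haveI : IsAffine T := PropsBasic2.isAffine_of_finite_discrete T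
  let R : CommRingCat.{u} := Γ(T, ⊤)
  let A : ι → CommRingCat.{u} := fun i => Γ(pullback (j i) (pullback.fst f z), ⊤)
  letI : Algebra k R := BddFib.secAlgebra (CommRingCat.of k) p
  letI : ∀ i, Algebra k (A i) := fun i => BddFib.secAlgebra (CommRingCat.of k) (q i ≫ p)
  haveI : ∀ i, Module.Finite k (A i) := fun i => (hq i).2.1
  let φ : R →ₐ[k] ((i : ι) → A i) :=
    { RingHom.pi fun i => (q i).appTop.hom with
      commutes' := fun a => funext fun i => by
        show ((Scheme.ΓSpecIso (CommRingCat.of k)).inv ≫ p.appTop ≫ (q i).appTop) a = _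
        rw [← Scheme.Hom.comp_appTop]
        rfl }
  have hφ : Function.Injective φ := fun a b hab => by
    refine TopCat.Presheaf.section_ext T.sheaf ⊤ a b fun t _ => ?_
    obtain ⟨i, x, rfl⟩ := hcov t
    refine (ConcreteCategory.bijective_of_isIso ((q i).stalkMap x)).1 ?_
    have key := fun c : R => Scheme.Hom.germ_stalkMap_apply (q i) ⊤ x trivial c
    exact (key a).trans ((congrArg _ (congrFun hab i)).trans (key b).symm)
  show IsAffine T ∧ Module.Finite k R ∧ Module.finrank k R ≤ ∑ i, n i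
  refine ⟨inferInstance, Module.Finite.of_injective φ.toLinearMap hφ,
    (LinearMap.finrank_le_finrank_of_injective (f := φ.toLinearMap) hφ).trans ?_⟩
  rw [Module.finrank_pi_fintype]
  exact Finset.sum_le_sum fun i _ => (hq i).2.2

/-- Zariski's main theorem bounds the fibres near every point. -/
theorem exists_bounded_nhd (R S : Type u) [CommRing R] [CommRing S] [Algebra R S] [Algebra.FiniteType R S]
    [Algebra.QuasiFinite R S] (x : PrimeSpectrum S) :
    ∃ (W : Scheme.{u}) (j : W ⟶ Spec (CommRingCat.of S)) (_ : IsOpenImmersion j) (n : ℕ), x ∈ Set.range j ∧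
      BddFib.FibreDegLE (j ≫ Spec.map (CommRingCat.ofHom (algebraMap R S))) n := by
  obtain ⟨S', hS', r, hr, hbij⟩ :=
    Algebra.QuasiFiniteAt.exists_fg_and_exists_notMem_and_awayMap_bijective (R := R) x.asIdeal
  haveI : Module.Finite R S' := ⟨(Submodule.fg_top _).mpr hS'⟩
  obtain ⟨N, g, hg⟩ := Module.Finite.exists_fin' R S'
  let j := Spec.map (CommRingCat.ofHom (algebraMap S (Localization.Away r.1)))
  let j' := Spec.map (CommRingCat.ofHom (algebraMap S' (Localization.Away r)))
  haveI : IsOpenImmersion j := IsOpenImmersion.of_isLocalization r.1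
  haveI : IsOpenImmersion j' := IsOpenImmersion.of_isLocalization r
  let e : CommRingCat.of (Localization.Away r) ≅ CommRingCat.of (Localization.Away r.1) :=
    (RingEquiv.ofBijective _ hbij).toCommRingCatIso
  refine ⟨_, j, inferInstance, 1 * (1 * N), ?_, ?_⟩
  · show x ∈ Set.range (PrimeSpectrum.comap (algebraMap S (Localization.Away r.1)))
    rw [PrimeSpectrum.localization_away_comap_range (Localization.Away r.1) r.1]
    exact hr
  · have he : j ≫ Spec.map (CommRingCat.ofHom (algebraMap R S)) =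
        Spec.map e.hom ≫ j' ≫ Spec.map (CommRingCat.ofHom (algebraMap R S')) := by
      rw [← Spec.map_comp, ← Spec.map_comp, ← Spec.map_comp]
      congr 1
      ext a
      show algebraMap S (Localization.Away r.1) (algebraMap R S a) =
        Localization.awayMap S'.val.toRingHom r (algebraMap S' (Localization.Away r) (algebraMap R S' a))
      simp only [Localization.awayMap, IsLocalization.Away.map, IsLocalization.map_eq]
      rfl
    rw [he]
    exact fibreDegLE_comp _ _ _ _ (fibreDegLE_one_of_immersion _)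
      (fibreDegLE_comp _ _ 1 N (fibreDegLE_one_of_immersion j') (fibreDegLE_spec_of_surjective R S' g hg))

theorem univBounded_of_qf {X Y : Scheme.{u}} (f : X ⟶ Y) [LocallyQuasiFinite f] [LocallyOfFiniteType f]
    [CompactSpace X] : BddFib.UnivBounded f := by
  have key : ∀ x : X, ∃ (W : Scheme.{u}) (j : W ⟶ X) (_ : IsOpenImmersion j) (n : ℕ),
      x ∈ Set.range j ∧ BddFib.FibreDegLE (j ≫ f) n := fun x => by
    obtain ⟨_, ⟨V, hV, rfl⟩, hxV, -⟩ :=
      Y.isBasis_affineOpens.exists_subset_of_mem_open (Set.mem_univ (f x)) isOpen_univ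
    obtain ⟨_, ⟨U, hU, rfl⟩, hxU, hUV⟩ :=
      X.isBasis_affineOpens.exists_subset_of_mem_open (show x ∈ f ⁻¹ᵁ V from hxV) (f ⁻¹ᵁ V).isOpen
    let φ := f.appLE V U hUV
    letI : Algebra Γ(Y, V) Γ(X, U) := φ.hom.toAlgebra
    haveI : Algebra.FiniteType Γ(Y, V) Γ(X, U) :=
      HasRingHomProperty.appLE @LocallyOfFiniteType f inferInstance ⟨V, hV⟩ ⟨U, hU⟩ hUV
    haveI : Algebra.QuasiFinite Γ(Y, V) Γ(X, U) :=
      HasRingHomProperty.appLE @LocallyQuasiFinite f inferInstance ⟨V, hV⟩ ⟨U, hU⟩ hUV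
    obtain ⟨w, hw⟩ : x ∈ Set.range hU.fromSpec := by rw [hU.range_fromSpec]; exact hxU
    obtain ⟨W, j, hj, n, hwj, hn⟩ := exists_bounded_nhd Γ(Y, V) Γ(X, U) w
    refine ⟨W, j ≫ hU.fromSpec, inferInstance, n * 1, ?_, ?_⟩
    · obtain ⟨v, rfl⟩ := hwj
      exact ⟨v, by simpa using hw⟩
    · rw [Category.assoc, ← IsAffineOpen.SpecMap_appLE_fromSpec f hV hU hUV, ← Category.assoc]
      exact fibreDegLE_comp _ _ _ _ hn (fibreDegLE_one_of_immersion _)
  choose W j hj n hx hn using key
  obtain ⟨s, hs⟩ := isCompact_univ.elim_finite_subcover (fun x => Set.range (j x))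
    (fun x => (hj x).base_open.isOpen_range) (fun x _ => Set.mem_iUnion.2 ⟨x, hx x⟩)
  haveI : ∀ i : {x // x ∈ s}, IsOpenImmersion (j i.1) := fun i => hj _
  refine ⟨_, fibreDegLE_of_isOpenCover f (fun i : {x // x ∈ s} => W i.1) (fun i => j i.1) (fun x => ?_)
    (fun i => n i.1) (fun i => hn i.1)⟩
  obtain ⟨i, hi, hxi⟩ := Set.mem_iUnion₂.1 (hs (Set.mem_univ x))
  exact ⟨⟨i, hi⟩, hxi⟩

end Groth.Misc3Fib
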