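import Groth.Prelude.Def_W4stkschemesremainderFib
import Groth.Agent.EtaleBase.FpqcDescent
import Mathlib.AlgebraicGeometry.Morphisms.FlatRank
import Mathlib.AlgebraicGeometry.Morphisms.Finite

/-!
# Degrees of fibres: basic calculus (`BddFib`)

`FiniteOfDegLE` over a field is `IsFinite` plus a bound on `Scheme.Hom.finrank`; it is invariant under
isomorphisms, stable under and descends along extensions of the field; hence the characterisation of
`FibreDegLE` by field-valued points and its behaviour under base change.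
-/

set_option autoImplicit false

universe u

open CategoryTheory CategoryTheory.Limits AlgebraicGeometry

namespace Groth.Misc3Fib

variable {K : CommRingCat.{u}} {T : Scheme.{u}}

/-- The rank of the global sections over the base ring. -/
noncomputable def deg (p : T ⟶ Spec K) : ℕ :=
  letI : Algebra K Γ(T, ⊤) := BddFib.secAlgebra K p
  Module.finrank K Γ(T, ⊤)

theorem finiteOfDegLE_iff (p : T ⟶ Spec K) (n : ℕ) :
    BddFib.FiniteOfDegLE K p n ↔ IsFinite p ∧ deg p ≤ n := by
  rw [HasAffineProperty.iff_of_isAffine (P := @IsFinite)]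
  constructor
  · rintro ⟨h1, h2, h3⟩
    refine ⟨⟨h1, ?_⟩, h3⟩
    have h2' : ((Scheme.ΓSpecIso K).inv ≫ p.appTop).hom.Finite := h2
    rw [show p.appTop = (Scheme.ΓSpecIso K).hom ≫ ((Scheme.ΓSpecIso K).inv ≫ p.appTop) by simp]
    exact h2'.comp (.of_surjective _ (ConcreteCategory.bijective_of_isIso (Scheme.ΓSpecIso K).hom).surjective)
  · rintro ⟨⟨h1, h2⟩, h3⟩
    refine ⟨h1, ?_, h3⟩
    show ((Scheme.ΓSpecIso K).inv ≫ p.appTop).hom.Finite
    exact RingHom.Finite.comp h2 (.of_surjective _ (ConcreteCategory.bijective_of_isIso (Scheme.ΓSpecIso K).inv).surjective)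

variable {k : Type u} [Field k]

theorem flat_of_field (p : T ⟶ Spec (CommRingCat.of k)) : Flat p := by
  rw [IsZariskiLocalAtSource.iff_of_openCover (P := @Flat) T.affineOpenCover.openCover]
  intro i
  obtain ⟨φ, hφ⟩ : ∃ φ : CommRingCat.of k ⟶ T.affineOpenCover.X i, Spec.map φ = T.affineOpenCover.f i ≫ p :=
    ⟨_, Spec.map_preimage _⟩
  show Flat (T.affineOpenCover.f i ≫ p)
  rw [← hφ, Flat.SpecMap_iff]
  algebraize [φ.hom]
  exact (inferInstance : Module.Flat k ↑(T.affineOpenCover.X i))

/-- Over a field the rank of the global sections is the rank of the morphism. -/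
theorem deg_eq_finrank (p : T ⟶ Spec (CommRingCat.of k)) [IsFinite p]
    (z : ↥(Spec (CommRingCat.of k))) : deg p = p.finrank z := by
  haveI := flat_of_field p
  haveI : IsAffine T := isAffine_of_isAffineHom p
  let R : CommRingCat.{u} := Γ(T, ⊤)
  letI : Algebra k R := BddFib.secAlgebra (CommRingCat.of k) p
  have hmap : Spec.map ((Scheme.ΓSpecIso (CommRingCat.of k)).inv ≫ p.appTop) = T.isoSpec.inv ≫ p := by
    rw [Spec.map_comp, ← Iso.cancel_iso_hom_left T.isoSpec, Iso.hom_inv_id_assoc,
      Scheme.isoSpec_hom, ← Category.assoc, ← Scheme.toSpecΓ_naturality, ← SpecMap_ΓSpecIso_hom,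
      Category.assoc, ← Spec.map_comp, Iso.inv_hom_id, Spec.map_id, Category.comp_id]
  have hfin : Module.Finite k R := ((finiteOfDegLE_iff p _).2 ⟨inferInstance, le_rfl⟩).2.1
  have h1 : (Spec.map (CommRingCat.ofHom (algebraMap k R))).finrank z = p.finrank z := by
    have e : CommRingCat.ofHom (algebraMap k R) = (Scheme.ΓSpecIso (CommRingCat.of k)).inv ≫ p.appTop := rfl
    rw [e, hmap, Scheme.Hom.finrank_comp_left_of_isIso]
  rw [← h1, Scheme.Hom.finrank_SpecMap_algebraMap, Module.rankAtStalk_eq_finrank_of_free]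
  rfl

/-- Invariance under isomorphisms. -/
theorem finiteOfDegLE_of_iso {T' : Scheme.{u}} (e : T ≅ T') (p : T ⟶ Spec (CommRingCat.of k))
    (p' : T' ⟶ Spec (CommRingCat.of k)) (h : e.hom ≫ p' = p) {n : ℕ}
    (hp' : BddFib.FiniteOfDegLE (CommRingCat.of k) p' n) : BddFib.FiniteOfDegLE (CommRingCat.of k) p n := by
  obtain ⟨h1, h2⟩ := (finiteOfDegLE_iff p' n).1 hp'
  haveI : IsFinite p := h ▸ inferInstance
  refine (finiteOfDegLE_iff p n).2 ⟨inferInstance, ?_⟩
  haveI := flat_of_field p'
  obtain ⟨z⟩ : Nonempty ↥(Spec (CommRingCat.of k)) := inferInstance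
  rw [deg_eq_finrank p z]
  subst h
  rw [Scheme.Hom.finrank_comp_left_of_isIso, ← deg_eq_finrank p' z]
  exact h2

/-- Extension of the field does not change the bound. -/
theorem finiteOfDegLE_iff_of_isPullback {L : Type u} [Field L] {i : CommRingCat.of k ⟶ CommRingCat.of L}
    {T' : Scheme.{u}} {p : T ⟶ Spec (CommRingCat.of k)} {p' : T' ⟶ Spec (CommRingCat.of L)} {g : T' ⟶ T}
    (h : IsPullback g p' p (Spec.map i)) (n : ℕ) :
    BddFib.FiniteOfDegLE (CommRingCat.of L) p' n ↔ BddFib.FiniteOfDegLE (CommRingCat.of k) p n := by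
  have hq : Groth.EtaleBase.Fpqc (Spec.map i) := by
    refine ⟨⟨⟨fun z => ?_⟩, flat_of_field _⟩, inferInstance⟩
    obtain ⟨w⟩ : Nonempty ↥(Spec (CommRingCat.of L)) := inferInstance
    exact ⟨w, Subsingleton.elim (α := PrimeSpectrum k) _ _⟩
  have hfin : IsFinite p' ↔ IsFinite p :=
    MorphismProperty.iff_of_isPullback (P := @IsFinite) (Q := Groth.EtaleBase.Fpqc) h.flip hq
  have hdeg : IsFinite p → deg p' = deg p := fun hp => by
    haveI := flat_of_field p
    haveI : IsFinite p' := hfin.2 hp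
    obtain ⟨w⟩ : Nonempty ↥(Spec (CommRingCat.of L)) := inferInstance
    rw [deg_eq_finrank p' w, deg_eq_finrank p ((Spec.map i) w), Scheme.Hom.finrank_of_isPullback g p' p _ h]
  rw [finiteOfDegLE_iff, finiteOfDegLE_iff, hfin]
  exact ⟨fun hh => ⟨hh.1, hdeg hh.1 ▸ hh.2⟩, fun hh => ⟨hh.1, (hdeg hh.1).symm ▸ hh.2⟩⟩

variable {X Y : Scheme.{u}}

/-- A fibre bound only depends on field-valued points. -/
theorem finiteOfDegLE_pullback_iff (f : X ⟶ Y) (g : Spec (CommRingCat.of k) ⟶ Y) (n : ℕ) :
    ∃ y : Y, (∀ z, g z = y) ∧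
      (BddFib.FiniteOfDegLE (CommRingCat.of k) (pullback.snd f g) n ↔
        BddFib.FiniteOfDegLE (Y.residueField y) (f.fiberToSpecResidueField y) n) := by
  obtain ⟨⟨y, ψ⟩, rfl⟩ := (Scheme.SpecToEquivOfField k Y).symm.surjective g
  refine ⟨y, fun z => ?_, ?_⟩
  · show (Y.fromSpecResidueField y) ((Spec.map ψ) z) = y
    exact Scheme.fromSpecResidueField_apply _ _
  · let top := pullback.lift (pullback.fst f (Spec.map ψ ≫ Y.fromSpecResidueField y))
      (pullback.snd f (Spec.map ψ ≫ Y.fromSpecResidueField y) ≫ Spec.map ψ)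
      (by rw [Category.assoc]; exact pullback.condition)
    have h : IsPullback top (pullback.snd f (Spec.map ψ ≫ Y.fromSpecResidueField y))
        (f.fiberToSpecResidueField y) (Spec.map ψ) := by
      refine IsPullback.of_right ?_ (pullback.lift_snd _ _ _) (IsPullback.of_hasPullback f (Y.fromSpecResidueField y))
      rw [pullback.lift_fst]
      exact IsPullback.of_hasPullback _ _
    exact finiteOfDegLE_iff_of_isPullback (i := ψ) h n

/-- The criterion on field-valued points. -/
theorem fibreDegLE_iff (f : X ⟶ Y) (n : ℕ) :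
    BddFib.FibreDegLE f n ↔ ∀ (k : Type u) [Field k] (g : Spec (CommRingCat.of k) ⟶ Y),
      BddFib.FiniteOfDegLE (CommRingCat.of k) (pullback.snd f g) n := by
  refine ⟨fun h k _ g => ?_, fun h y => h (Y.residueField y) (Y.fromSpecResidueField y)⟩
  obtain ⟨y, -, hy⟩ := finiteOfDegLE_pullback_iff f g n
  exact hy.2 (h y)

variable {X' Y' : Scheme.{u}} {f : X ⟶ Y} {g : Y' ⟶ Y} {f' : X' ⟶ Y'} {g' : X' ⟶ X}

/-- The fibres of a base change. -/
theorem fibre_iff_of_isPullback (h : IsPullback g' f' f g) (n : ℕ) (y' : Y') :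
    BddFib.FiniteOfDegLE (Y'.residueField y') (f'.fiberToSpecResidueField y') n ↔
      BddFib.FiniteOfDegLE (Y.residueField (g y')) (f.fiberToSpecResidueField (g y')) n :=
  finiteOfDegLE_iff_of_isPullback (i := g.residueFieldMap y')
    (isPullback_fiberToSpecResidueField_of_isPullback h y') n

end Groth.Misc3Fib
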