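import Groth.Agent.Misc3Fib.Basic
import Groth.Agent.PropsBasic2.Discrete

/-! Points of a scheme that is finite of bounded degree over a field (`BddFib`). -/

set_option autoImplicit false

universe u

open CategoryTheory CategoryTheory.Limits AlgebraicGeometry

namespace Groth.Misc3Fib

variable {k : Type u} [Field k] {T : Scheme.{u}}

theorem finite_discrete_of_isFinite (p : T ⟶ Spec (CommRingCat.of k)) [IsFinite p] :
    Finite T ∧ DiscreteTopology T := by
  haveI : IsLocallyArtinian (Spec (CommRingCat.of k)) :=
    IsLocallyArtinian.iff_isLocallyNoetherian_and_discreteTopology.mpr ⟨inferInstance, inferInstance⟩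
  haveI : IsAffine T := isAffine_of_isAffineHom p
  have hfin := ((finiteOfDegLE_iff p _).2 ⟨inferInstance, le_rfl⟩).2.1
  let R : CommRingCat.{u} := Γ(T, ⊤)
  letI : Algebra k R := BddFib.secAlgebra (CommRingCat.of k) p
  haveI : Module.Finite k R := hfin
  haveI : IsArtinianRing R := IsArtinianRing.of_finite k R
  let e : T ≃ₜ PrimeSpectrum R := T.isoSpec.schemeIsoToHomeo
  exact ⟨Finite.of_equiv _ e.toEquiv.symm, e.symm.discreteTopology⟩

theorem bijective_evaluation_spec (z : ↥(Spec (CommRingCat.of k))) :
    Function.Bijective ((Scheme.ΓSpecIso (CommRingCat.of k)).inv ≫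
      (Spec (CommRingCat.of k)).Γevaluation z).hom := by
  refine ⟨RingHom.injective _, ?_⟩
  haveI : DiscreteTopology (Spec (CommRingCat.of k)) := inferInstance
  haveI : Subsingleton (Spec (CommRingCat.of k)) := inferInstanceAs (Subsingleton (PrimeSpectrum k))
  have hg : Function.Surjective ((Spec (CommRingCat.of k)).presheaf.germ ⊤ z trivial).hom := fun t => by
    obtain ⟨a, ha⟩ := (PropsBasic2.bijective_pi_germ (Spec (CommRingCat.of k))).2 (fun w =>
      Subsingleton.elim z w ▸ t)
    exact ⟨a, congrFun ha z⟩
  exact (((Spec (CommRingCat.of k)).residue_surjective z).comp hg).comp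
    (ConcreteCategory.bijective_of_isIso (Scheme.ΓSpecIso (CommRingCat.of k)).inv).2

/-- The sum of the residue degrees is at most the degree. -/
theorem sum_residueDegree_le (p : T ⟶ Spec (CommRingCat.of k)) [IsFinite p] :
    ∑ᶠ x : T, p.residueDegree x ≤ deg p ∧ ∀ x, 1 ≤ p.residueDegree x := by
  obtain ⟨hTf, hTd⟩ := finite_discrete_of_isFinite p
  have hfin := ((finiteOfDegLE_iff p _).2 ⟨inferInstance, le_rfl⟩).2.1
  haveI := Fintype.ofFinite T
  let R : CommRingCat.{u} := Γ(T, ⊤)
  letI : Algebra k R := BddFib.secAlgebra (CommRingCat.of k) p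
  haveI : Module.Finite k R := hfin
  letI : ∀ x : T, Algebra R (T.residueField x) := fun x => (T.Γevaluation x).hom.toAlgebra
  letI : ∀ x : T, Algebra k (T.residueField x) := fun x =>
    ((T.Γevaluation x).hom.comp (algebraMap k R)).toAlgebra
  haveI : ∀ x : T, IsScalarTower k R (T.residueField x) := fun x => IsScalarTower.of_algebraMap_eq' rfl
  let φ : R →ₐ[k] ((x : T) → T.residueField x) :=
    { RingHom.pi fun x : T => (T.Γevaluation x).hom with commutes' := fun a => rfl }
  have hφ : Function.Surjective φ := fun t => by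
    choose s hs using fun x => T.residue_surjective x (t x)
    obtain ⟨a, ha⟩ := (PropsBasic2.bijective_pi_germ T).2 s
    exact ⟨a, funext fun x => (congrArg (T.residue x).hom (congrFun ha x)).trans (hs x)⟩
  haveI : ∀ x : T, Module.Finite k (T.residueField x) := fun x =>
    Module.Finite.of_surjective ((Pi.evalAlgHom k _ x).comp φ).toLinearMap
      ((Function.surjective_eval x).comp hφ)
  have hdeg : ∀ x : T, p.residueDegree x = Module.finrank k (T.residueField x) := fun x => by
    letI : Algebra ((Spec (CommRingCat.of k)).residueField (p x)) (T.residueField x) :=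
      (p.residueFieldMap x).hom.toAlgebra
    show Module.finrank ((Spec (CommRingCat.of k)).residueField (p x)) (T.residueField x) = _
    refine (Algebra.finrank_eq_of_equiv_equiv
      (RingEquiv.ofBijective _ (bijective_evaluation_spec (p x))) (RingEquiv.refl _) ?_).symm
    ext a
    exact Scheme.Γevaluation_naturality_apply p x _
  refine ⟨?_, fun x => ?_⟩
  · rw [finsum_eq_sum_of_fintype, Finset.sum_congr rfl fun x _ => hdeg x,
      ← Module.finrank_pi_fintype k]
    exact LinearMap.finrank_le_finrank_of_surjective (f := φ.toLinearMap) hφ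
  · rw [hdeg]
    exact Module.finrank_pos

theorem natCard_le (p : T ⟶ Spec (CommRingCat.of k)) [IsFinite p] : Nat.card T ≤ deg p := by
  obtain ⟨hTf, -⟩ := finite_discrete_of_isFinite p
  haveI := Fintype.ofFinite T
  obtain ⟨h1, h2⟩ := sum_residueDegree_le p
  rw [finsum_eq_sum_of_fintype] at h1
  refine le_trans ?_ h1
  rw [Nat.card_eq_fintype_card, ← Finset.card_univ, Finset.card_eq_sum_ones]
  exact Finset.sum_le_sum fun x _ => h2 x

end Groth.Misc3Fib
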