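import Mathlib.RingTheory.Artinian.Module
import Mathlib.RingTheory.Artinian.Ring
import Mathlib.LinearAlgebra.Dimension.Free
import Mathlib.LinearAlgebra.FiniteDimensional.Lemmas
import Mathlib.RingTheory.Jacobson.Ideal
import Mathlib.RingTheory.TensorProduct.Finite
import Mathlib.LinearAlgebra.TensorProduct.Quotient

/-! Generators of an algebra over an artinian ring from generators of its fibres (`BddFib`). -/

set_option autoImplicit false

universe u

open TensorProduct

namespace Groth.Misc3Fib

variable {R A : Type u} [CommRing R] [CommRing A] [Algebra R A]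

theorem exists_lift_span_of_finrank_le (m : Ideal R) [m.IsMaximal] {n : ℕ}
    [Module.Finite (R ⧸ m) ((R ⧸ m) ⊗[R] A)]
    (h : Module.finrank (R ⧸ m) ((R ⧸ m) ⊗[R] A) ≤ n) :
    ∃ a : Fin n → A, Submodule.span R (Set.range a) ⊔ m • (⊤ : Submodule R A) = ⊤ := by
  letI : Field (R ⧸ m) := Ideal.Quotient.field m
  let b := Module.finBasis (R ⧸ m) ((R ⧸ m) ⊗[R] A)
  let e : ((R ⧸ m) ⊗[R] A) ≃ₗ[R] A ⧸ (m • (⊤ : Submodule R A)) :=
    TensorProduct.quotTensorEquivQuotSMul A m
  let v : Fin n → (R ⧸ m) ⊗[R] A := fun i =>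
    if hi : (i : ℕ) < Module.finrank (R ⧸ m) ((R ⧸ m) ⊗[R] A) then b ⟨i, hi⟩ else 0
  have hv : Submodule.span R (Set.range v) = ⊤ := by
    rw [← Submodule.restrictScalars_span R (R ⧸ m) Ideal.Quotient.mk_surjective,
      Submodule.restrictScalars_eq_top_iff, eq_top_iff, ← b.span_eq]
    refine Submodule.span_mono ?_
    rintro _ ⟨i, rfl⟩
    exact ⟨⟨i, lt_of_lt_of_le i.2 h⟩, dif_pos i.2⟩
  choose a ha using fun i => Submodule.mkQ_surjective (m • (⊤ : Submodule R A)) (e (v i))
  refine ⟨a, ?_⟩
  have : (Submodule.span R (Set.range a)).map (Submodule.mkQ (m • ⊤)) = ⊤ := by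
    rw [Submodule.map_span, ← Set.range_comp, show (Submodule.mkQ (m • ⊤) ∘ a) = e ∘ v from funext ha,
      Set.range_comp]
    erw [← Submodule.map_span e.toLinearMap, hv, Submodule.map_top, LinearMap.range_eq_top]
    exact e.surjective
  rw [sup_comm, ← Submodule.comap_map_mkQ, this, Submodule.comap_top]

theorem exists_span_of_isArtinianRing [IsArtinianRing R] {n : ℕ}
    (h : ∀ m : Ideal R, m.IsMaximal →
      ∃ a : Fin n → A, Submodule.span R (Set.range a) ⊔ m • (⊤ : Submodule R A) = ⊤) :
    ∃ a : Fin n → A, Submodule.span R (Set.range a) = ⊤ := by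
  classical
  haveI := Fintype.ofFinite (MaximalSpectrum R)
  choose a ha using fun m : MaximalSpectrum R => h m.asIdeal m.isMaximal
  have hco : Pairwise (Function.onFun IsCoprime fun m : MaximalSpectrum R => m.asIdeal) := fun m m' hm =>
    Ideal.isCoprime_iff_sup_eq.mpr (m.isMaximal.coprime_of_ne m'.isMaximal fun e => hm (MaximalSpectrum.ext e))
  choose e he using fun t : MaximalSpectrum R =>
    Ideal.exists_forall_sub_mem_ideal hco fun s => if s = t then (1 : R) else 0
  refine ⟨fun i => ∑ t, e t • a t i, ?_⟩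
  set N := Submodule.span R (Set.range fun i => ∑ t, e t • a t i)
  have hN : ∀ s : MaximalSpectrum R, N ⊔ s.asIdeal • ⊤ = ⊤ := fun s => by
    refine eq_top_iff.2 ((ha s).ge.trans (sup_le ?_ le_sup_right))
    rw [Submodule.span_le]
    rintro _ ⟨i, rfl⟩
    have hd : a s i - ∑ t, e t • a t i ∈ s.asIdeal • (⊤ : Submodule R A) := by
      have h' : a s i - ∑ t, e t • a t i = ∑ t, ((if s = t then (1 : R) else 0) - e t) • a t i := by
        simp [sub_smul, Finset.sum_sub_distrib, ite_smul]
      rw [h']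
      refine Submodule.sum_mem _ fun t _ => Submodule.smul_mem_smul ?_ trivial
      simpa only [neg_sub] using neg_mem (he t s)
    rw [← sub_add_cancel (a s i) (∑ t, e t • a t i)]
    exact add_mem (Submodule.mem_sup_right hd)
      (Submodule.mem_sup_left (Submodule.subset_span ⟨i, rfl⟩))
  have key : ∀ l : List (Ideal R), (∀ m ∈ l, m.IsMaximal) → N ⊔ l.prod • ⊤ = ⊤ := by
    intro l
    induction l with
    | nil => intro _; rw [List.prod_nil, Ideal.one_eq_top, Submodule.top_smul, sup_top_eq]
    | cons m l ih =>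
      intro hl
      have h1 := hN ⟨m, hl m (List.mem_cons_self ..)⟩
      have h2 := ih fun m' hm' => hl m' (List.mem_cons_of_mem _ hm')
      refine eq_top_iff.2 ?_
      calc ⊤ = N ⊔ m • (⊤ : Submodule R A) := h1.symm
        _ = N ⊔ m • (N ⊔ l.prod • ⊤) := by rw [h2]
        _ ≤ N ⊔ (m :: l).prod • ⊤ := by
          rw [Submodule.smul_sup, List.prod_cons, Submodule.mul_smul]
          exact sup_le le_sup_left (sup_le (Submodule.smul_le_right.trans le_sup_left) le_sup_right)
  obtain ⟨k, hk⟩ : IsNilpotent (Ideal.jacobson (⊥ : Ideal R)) := IsArtinianRing.isNilpotent_jacobson_bot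
  let l := (Finset.univ : Finset (MaximalSpectrum R)).toList.map MaximalSpectrum.asIdeal
  have hl : l.prod ≤ Ideal.jacobson (⊥ : Ideal R) := by
    refine le_sInf fun m hm => ?_
    have hm' : m ∈ l := List.mem_map.2 ⟨⟨m, hm.2⟩, Finset.mem_toList.2 (Finset.mem_univ _), rfl⟩
    rw [(List.perm_cons_erase hm').prod_eq, List.prod_cons]
    exact Ideal.mul_le_left
  have := key (List.flatten (List.replicate k l)) fun m hm => by
    obtain ⟨l', hl', hm'⟩ := List.mem_flatten.1 hm
    obtain rfl := List.eq_of_mem_replicate hl'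
    obtain ⟨t, -, rfl⟩ := List.mem_map.1 hm'
    exact t.isMaximal
  rw [List.prod_flatten, List.map_replicate, List.prod_replicate] at this
  have hz : l.prod ^ k = ⊥ := le_bot_iff.1 ((Ideal.pow_right_mono hl k).trans hk.le)
  rwa [hz, Submodule.bot_smul, sup_bot_eq] at this

end Groth.Misc3Fib
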