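import Groth.Agent.Misc3Fib.Basic
import Groth.Agent.Misc3Fib.Gen
import Mathlib.AlgebraicGeometry.Pullbacks

/-! `BddFib` on affine schemes. -/

set_option autoImplicit false

universe u

open CategoryTheory CategoryTheory.Limits AlgebraicGeometry TensorProduct

namespace Groth.Misc3Fib

theorem finiteOfDegLE_spec_iff (k B : Type u) [Field k] [CommRing B] [Algebra k B] (n : ℕ) :
    BddFib.FiniteOfDegLE (CommRingCat.of k)
        (Spec.map (CommRingCat.ofHom (algebraMap k B))) n ↔
      Module.Finite k B ∧ Module.finrank k B ≤ n := by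
  let T : Scheme.{u} := Spec (CommRingCat.of B)
  let p : T ⟶ Spec (CommRingCat.of k) := Spec.map (CommRingCat.ofHom (algebraMap k B))
  let R : CommRingCat.{u} := Γ(T, ⊤)
  letI : Algebra k R := BddFib.secAlgebra (CommRingCat.of k) p
  let e : R ≃ₐ[k] B := AlgEquiv.ofRingEquiv
    (f := (Scheme.ΓSpecIso (CommRingCat.of B)).commRingCatIsoToRingEquiv) fun a => by
      show ((Scheme.ΓSpecIso (CommRingCat.of k)).inv ≫ p.appTop ≫ (Scheme.ΓSpecIso (CommRingCat.of B)).hom) a = _
      rw [Scheme.ΓSpecIso_naturality, Iso.inv_hom_id_assoc]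
      rfl
  show IsAffine T ∧ Module.Finite k R ∧ Module.finrank k R ≤ n ↔ _
  rw [Module.Finite.equiv_iff e.toLinearEquiv, e.toLinearEquiv.finrank_eq]
  exact and_iff_right inferInstance

variable (R A : Type u) [CommRing R] [CommRing A] [Algebra R A]

/-- The fibres of an affine morphism as tensor products. -/
theorem fibre_spec_iff (K : Type u) [Field K] [Algebra R K] (n : ℕ) :
    BddFib.FiniteOfDegLE (CommRingCat.of K)
        (pullback.snd (Spec.map (CommRingCat.ofHom (algebraMap R A))) (Spec.map (CommRingCat.ofHom (algebraMap R K)))) n ↔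
      Module.Finite K (K ⊗[R] A) ∧ Module.finrank K (K ⊗[R] A) ≤ n := by
  have h := (isPullback_SpecMap_of_isPushout _ _ _ _ (CommRingCat.isPushout_tensorProduct R K A)).flip
  rw [← finiteOfDegLE_spec_iff]
  exact ⟨finiteOfDegLE_of_iso h.isoPullback _ _ h.isoPullback_hom_snd,
    finiteOfDegLE_of_iso h.isoPullback.symm _ _ h.isoPullback_inv_snd⟩

theorem fibreDegLE_spec_iff (n : ℕ) :
    BddFib.FibreDegLE (Spec.map (CommRingCat.ofHom (algebraMap R A))) n ↔
      ∀ (K : Type u) [Field K] [Algebra R K], Module.Finite K (K ⊗[R] A) ∧ Module.finrank K (K ⊗[R] A) ≤ n := by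
  rw [fibreDegLE_iff]
  refine ⟨fun h K _ _ => (fibre_spec_iff R A K n).1 (h K _), fun h K _ g => ?_⟩
  obtain ⟨ψ, rfl⟩ : ∃ ψ, Spec.map ψ = g := ⟨_, Spec.map_preimage g⟩
  letI : Algebra R K := ψ.hom.toAlgebra
  exact (fibre_spec_iff R A K n).2 (h K)

/-- An algebra generated as a module by `n` elements has fibres of degree at most `n`. -/
theorem fibreDegLE_spec_of_surjective {n : ℕ} (f : (Fin n → R) →ₗ[R] A) (hf : Function.Surjective f) :
    BddFib.FibreDegLE (Spec.map (CommRingCat.ofHom (algebraMap R A))) n := by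
  rw [fibreDegLE_spec_iff]
  intro K _ _
  haveI : Nontrivial R := (algebraMap R K).domain_nontrivial
  have hs : Function.Surjective (f.baseChange K) := LinearMap.lTensor_surjective _ hf
  refine ⟨Module.Finite.of_surjective _ hs, (LinearMap.finrank_le_finrank_of_surjective hs).trans ?_⟩
  rw [Module.finrank_baseChange, Module.finrank_fin_fun]

variable {R A}

/-- Degrees multiply. -/
theorem comp_spec [IsArtinianRing R] (k : Type u) [Field k] [Algebra k R] [Module.Finite k R]
    [Algebra k A] [IsScalarTower k R A] {n m : ℕ} (hR : Module.finrank k R ≤ m)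
    (hA : BddFib.FibreDegLE (Spec.map (CommRingCat.ofHom (algebraMap R A))) n) :
    Module.Finite k A ∧ Module.finrank k A ≤ n * m := by
  obtain ⟨a, ha⟩ := exists_span_of_isArtinianRing (A := A) fun q hq => by
    letI : Field (R ⧸ q) := Ideal.Quotient.field q
    obtain ⟨h1, h2⟩ := (fibreDegLE_spec_iff R A n).1 hA (R ⧸ q)
    exact exists_lift_span_of_finrank_le q h2
  have hs : Function.Surjective ((Fintype.linearCombination R a).restrictScalars k) := by
    rw [LinearMap.coe_restrictScalars, ← LinearMap.range_eq_top, Fintype.range_linearCombination, ha]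
  refine ⟨Module.Finite.of_surjective _ hs, (LinearMap.finrank_le_finrank_of_surjective hs).trans ?_⟩
  rw [Module.finrank_pi_fintype, Finset.sum_const, Finset.card_univ, Fintype.card_fin, smul_eq_mul]
  exact Nat.mul_le_mul_left n hR

end Groth.Misc3Fib
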