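import Groth.Agent.Misc3Fib.Affine
import Groth.Agent.Misc3Fib.Count

/-! Degrees of fibres of composites (`BddFib`). -/

set_option autoImplicit false

universe u

open CategoryTheory CategoryTheory.Limits AlgebraicGeometry

namespace Groth.Misc3Fib

/-- A scheme over a finite discrete scheme with finite fibres is finite discrete. -/
theorem finite_discrete_of_fibres {S T : Scheme.{u}} (h : S ⟶ T) (n : ℕ) (hh : BddFib.FibreDegLE h n)
    [Finite T] [DiscreteTopology T] : Finite S ∧ DiscreteTopology S := by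
  have hfib : ∀ t : T, Finite ↥(h ⁻¹' {t}) ∧ DiscreteTopology ↥(h ⁻¹' {t}) := fun t => by
    let p : pullback h (T.fromSpecResidueField t) ⟶ Spec (CommRingCat.of (T.residueField t)) :=
      pullback.snd h (T.fromSpecResidueField t)
    haveI : IsFinite p := ((finiteOfDegLE_iff p n).1 (hh t)).1
    obtain ⟨h1, h2⟩ := finite_discrete_of_isFinite p
    haveI : Finite ↥(h.fiber t) := h1
    haveI : DiscreteTopology ↥(h.fiber t) := h2
    exact ⟨Finite.of_equiv _ (h.fiberHomeo t).toEquiv, (h.fiberHomeo t).discreteTopology⟩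
  haveI : ∀ t : T, Finite {s : S // h s = t} := fun t => (hfib t).1
  refine ⟨Finite.of_equiv _ (Equiv.sigmaFiberEquiv h), discreteTopology_iff_isOpen_singleton.2 fun s => ?_⟩
  haveI := (hfib (h s)).2
  have h1 : IsOpen ({⟨s, rfl⟩} : Set ↥(h ⁻¹' {h s})) := isOpen_discrete _
  have h2 := (((isOpen_discrete {h s}).preimage h.continuous).isOpenMap_subtype_val) _ h1
  rwa [Set.image_singleton] at h2

variable {k : Type u} [Field k] {S T : Scheme.{u}}

/-- Degrees multiply, over a field. -/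
theorem finiteOfDegLE_comp (h : S ⟶ T) (p : T ⟶ Spec (CommRingCat.of k)) {n m : ℕ}
    (hp : BddFib.FiniteOfDegLE (CommRingCat.of k) p m) (hh : BddFib.FibreDegLE h n) :
    BddFib.FiniteOfDegLE (CommRingCat.of k) (h ≫ p) (n * m) := by
  haveI : IsFinite p := ((finiteOfDegLE_iff p m).1 hp).1
  haveI : IsAffine T := isAffine_of_isAffineHom p
  obtain ⟨hTf, hTd⟩ := finite_discrete_of_isFinite p
  obtain ⟨hSf, hSd⟩ := finite_discrete_of_fibres h n hh
  haveI : IsAffine S := PropsBasic2.isAffine_of_finite_discrete S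
  obtain ⟨φ, hφ⟩ : ∃ φ, Spec.map φ = S.isoSpec.inv ≫ h ≫ T.isoSpec.hom := ⟨_, Spec.map_preimage _⟩
  obtain ⟨ψ, hψ⟩ : ∃ ψ, Spec.map ψ = T.isoSpec.inv ≫ p := ⟨_, Spec.map_preimage _⟩
  let R : CommRingCat.{u} := Γ(T, ⊤)
  let A : CommRingCat.{u} := Γ(S, ⊤)
  letI : Algebra R A := φ.hom.toAlgebra
  letI : Algebra k R := ψ.hom.toAlgebra
  letI : Algebra k A := (φ.hom.comp ψ.hom).toAlgebra
  haveI : IsScalarTower k R A := IsScalarTower.of_algebraMap_eq' rfl
  have hR : BddFib.FiniteOfDegLE (CommRingCat.of k) (Spec.map ψ) m :=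
    finiteOfDegLE_of_iso T.isoSpec.symm _ p (by rw [hψ]; rfl) hp
  obtain ⟨hR1, hR2⟩ := (finiteOfDegLE_spec_iff k R m).1 hR
  haveI := hR1
  haveI : IsArtinianRing R := IsArtinianRing.of_finite k R
  have hA : BddFib.FibreDegLE (Spec.map φ) n := fun y => by
    refine (fibre_iff_of_isPullback (f := h) (g := T.isoSpec.inv) (g' := S.isoSpec.inv)
      (IsPullback.of_horiz_isIso ⟨by rw [hφ]; simp⟩) n y).2 (hh _)
  refine finiteOfDegLE_of_iso S.isoSpec (h ≫ p) (Spec.map (ψ ≫ φ)) ?_
    ((finiteOfDegLE_spec_iff k A _).2 (comp_spec k hR2 hA))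
  rw [Spec.map_comp, hφ, hψ]
  simp

/-- Degrees multiply. -/
theorem fibreDegLE_comp {X Y Z : Scheme.{u}} (f : X ⟶ Y) (g : Y ⟶ Z) (n m : ℕ)
    (hf : BddFib.FibreDegLE f n) (hg : BddFib.FibreDegLE g m) : BddFib.FibreDegLE (f ≫ g) (n * m) := by
  rw [fibreDegLE_iff]
  intro k _ z
  let h := pullback.snd f (pullback.fst g z)
  have hh : BddFib.FibreDegLE h n := fun y =>
    (fibre_iff_of_isPullback (IsPullback.of_hasPullback f (pullback.fst g z)) n y).2 (hf _)
  have hp := (fibreDegLE_iff g m).1 hg k z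
  refine finiteOfDegLE_of_iso
    ((IsPullback.of_hasPullback f (pullback.fst g z)).paste_vert (IsPullback.of_hasPullback g z)).isoPullback.symm
    _ _ ?_ (finiteOfDegLE_comp h (pullback.snd g z) hp hh)
  exact IsPullback.isoPullback_inv_snd _

end Groth.Misc3Fib
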