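import Groth.Agent.Misc3Fib.Affine
import Groth.Agent.Misc3Fib.Count
import Mathlib.AlgebraicGeometry.Morphisms.Etale
import Mathlib.RingTheory.Unramified.Field
import Mathlib.FieldTheory.IsAlgClosed.AlgebraicClosure

/-! For étale morphisms the degrees of the fibres are bounded by the numbers of geometric points (`BddFib`). -/

set_option autoImplicit false

universe u

open CategoryTheory CategoryTheory.Limits AlgebraicGeometry

namespace Groth.Misc3Fib

variable {k : Type u} [Field k] {T : Scheme.{u}}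

theorem finiteOfDegLE_of_etale [IsAlgClosed k] (p : T ⟶ Spec (CommRingCat.of k)) [Etale p] {n : ℕ}
    (hT : Finite T) (hn : Nat.card T ≤ n) : BddFib.FiniteOfDegLE (CommRingCat.of k) p n := by
  obtain ⟨hA, hfin⟩ := PropsBasic2.finite_carrier T k p hT
  haveI := hA
  obtain ⟨ψ, hψ⟩ : ∃ ψ, Spec.map ψ = T.isoSpec.inv ≫ p := ⟨_, Spec.map_preimage _⟩
  let R : CommRingCat.{u} := Γ(T, ⊤)
  letI : Algebra k R := ψ.hom.toAlgebra
  have het : RingHom.Etale ψ.hom := by
    rw [← HasRingHomProperty.Spec_iff (P := @Etale), hψ]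
    infer_instance
  haveI : Algebra.Etale k R := het
  haveI : IsFinite p := HasAffineProperty.iff_of_isAffine.mpr ⟨hA, hfin⟩
  haveI : Module.Finite k R := ((finiteOfDegLE_spec_iff k R (deg p)).1
    (finiteOfDegLE_of_iso T.isoSpec.symm (Spec.map ψ) p (by rw [hψ]; rfl)
      ((finiteOfDegLE_iff p _).2 ⟨inferInstance, le_rfl⟩))).1
  haveI : IsArtinianRing R := IsArtinianRing.of_finite k R
  haveI : IsReduced R := Algebra.FormallyUnramified.isReduced_of_field k R
  refine finiteOfDegLE_of_iso T.isoSpec p (Spec.map ψ) (by rw [hψ]; simp)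
    ((finiteOfDegLE_spec_iff k R n).2 ⟨inferInstance, ?_⟩)
  letI : ∀ m : MaximalSpectrum R, Field (R ⧸ m.asIdeal) := fun m => Ideal.Quotient.field m.asIdeal
  haveI := Fintype.ofFinite (MaximalSpectrum R)
  rw [((IsArtinianRing.equivPi R).restrictScalars k).toLinearEquiv.finrank_eq, Module.finrank_pi_fintype]
  have h1 : ∀ m : MaximalSpectrum R, Module.finrank k (R ⧸ m.asIdeal) = 1 := fun m => by
    have hb := IsAlgClosed.algebraMap_bijective_of_isIntegral (k := k) (K := R ⧸ m.asIdeal)
    rw [← (LinearEquiv.ofBijective (Algebra.linearMap k (R ⧸ m.asIdeal)) hb).finrank_eq,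
      Module.finrank_self]
  rw [Finset.sum_congr rfl fun m _ => h1 m, Finset.sum_const, smul_eq_mul, mul_one, Finset.card_univ,
    ← Nat.card_eq_fintype_card,
    ← Nat.card_congr (IsArtinianRing.primeSpectrumEquivMaximalSpectrum (R := R))]
  exact (Nat.card_congr T.isoSpec.schemeIsoToHomeo.toEquiv).symm.le.trans hn

theorem fibreDegLE_of_natCard_le {X Y : Scheme.{u}} (f : X ⟶ Y) [Etale f] (n : ℕ)
    (h : ∀ (k : Type u) [Field k] (g : Spec (CommRingCat.of k) ⟶ Y),
      Finite ↥(pullback f g) ∧ Nat.card ↥(pullback f g) ≤ n) :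
    BddFib.FibreDegLE f n := fun y => by
  let L := AlgebraicClosure (Y.residueField y)
  let i : CommRingCat.of (Y.residueField y) ⟶ CommRingCat.of L := CommRingCat.ofHom (algebraMap _ L)
  let z : Spec (CommRingCat.of L) ⟶ Y := Spec.map i ≫ Y.fromSpecResidueField y
  obtain ⟨hf, hc⟩ := h L z
  obtain ⟨y', hy', hiff⟩ := finiteOfDegLE_pullback_iff f z n
  obtain ⟨w⟩ : Nonempty ↥(Spec (CommRingCat.of L)) := inferInstance
  obtain rfl : y = y' := (Scheme.fromSpecResidueField_apply y _).symm.trans (hy' w)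
  haveI : Etale (pullback.snd f z) := MorphismProperty.pullback_snd _ _ inferInstance
  exact hiff.1 (finiteOfDegLE_of_etale _ hf hc)

end Groth.Misc3Fib
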